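import Groth.Agent.MorLib.WeightDeg
import Groth.Agent.EtFound.Strata
import Mathlib.AlgebraicGeometry.Morphisms.Etale

/-!
# Stratification of a quasi-compact étale morphism into finite pieces
-/

set_option autoImplicit false
set_option linter.style.haveILetI false

universe u

open CategoryTheory CategoryTheory.Limits AlgebraicGeometry Topology
open Groth.Agent.MorLib

namespace Groth.Agent.EtStrat13

theorem comp_pt {A B C : Scheme.{u}} {f : A ⟶ B} {g : B ⟶ C} {h : A ⟶ C} (e : f ≫ g = h) (x : A) :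
    g (f x) = h x := by subst e; rfl

/-- Finitely many constructible sets on each of which base change is finite. -/
theorem exists_constructible_cover {V X : Scheme.{u}} [CompactSpace X] [QuasiSeparatedSpace X] (f : V ⟶ X)
    [Flat f] [LocallyOfFinitePresentation f] [IsSeparated f] [LocallyQuasiFinite f] [QuasiCompact f] :
    ∃ (m : ℕ) (E : Fin m → Set X), (∀ r, IsConstructible (E r)) ∧ (⋃ r, E r) = Set.univ ∧
      ∀ r {T : Scheme.{u}} (g : T ⟶ X), Set.range g ⊆ E r → IsFinite (pullback.snd f g) := by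
  have hfin : ∀ s : X, (f ⁻¹' {s}).Finite := WT.finite_preimage_of_qc
  have hcon : ∀ r, IsConstructible {s : X | WT.deg f s = r} := fun r => by
    have : {s : X | WT.deg f s = r} = {s : X | MoreMor.fibreIntegral f (WT.wt f) s = (r : ℤ)} := by
      ext s; simp [← WT.deg_cast hfin]
    rw [this]
    exact (WT.isLocallyConstructible_fibreIntegral (WT.isWeighting_wt f) r).isConstructible
  obtain ⟨F, hF⟩ := (isCompact_univ (X := WithConstructibleTopology X)).elim_finite_subcover
    (fun r : ℕ => (WithTopology.ofTopology ⁻¹' {s : X | WT.deg f s = r} : Set (WithConstructibleTopology X)))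
    (fun r => WithConstructibleTopology.isOpen_iff.mpr (WT.isClopen_constructibleTopology (hcon r)).1)
    fun s _ => Set.mem_iUnion.2 ⟨_, rfl⟩
  refine ⟨_, fun i => {s : X | WT.deg f s = (F.equivFin.symm i).1}, fun i => hcon _, ?_, fun i T g hg => ?_⟩
  · refine Set.eq_univ_of_forall fun s => ?_
    obtain ⟨r, hr, hs⟩ := Set.mem_iUnion₂.1 (hF (Set.mem_univ (WithTopology.toTopology _ s)))
    exact Set.mem_iUnion.2 ⟨F.equivFin ⟨r, hr⟩, by simpa using hs⟩
  · exact ((WT.isFinLocFreeOfDeg_iff hfin g _).2 fun t => hg ⟨t, rfl⟩).1.1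

theorem isFinite_of_opens_disjoint {P T : Scheme.{u}} (p : P ⟶ T) (A B : P.Opens) (h : Disjoint A B)
    (hAB : A ⊔ B = ⊤) [IsFinite (A.ι ≫ p)] [IsFinite (B.ι ≫ p)] : IsFinite p := by
  obtain ⟨hc⟩ := nonempty_isColimit_binaryCofanMk_of_isCompl A.ι B.ι
    (by rw [Scheme.Opens.opensRange_ι, Scheme.Opens.opensRange_ι]; exact ⟨h, codisjoint_iff.2 hAB⟩)
  let e : A.toScheme ⨿ B.toScheme ≅ P := (coprodIsCoprod _ _).coconePointUniqueUpToIso hc
  have he : e.hom ≫ p = coprod.desc (A.ι ≫ p) (B.ι ≫ p) := by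
    apply coprod.hom_ext
    · rw [coprod.inl_desc, ← Category.assoc]
      exact congrArg (· ≫ p) ((coprodIsCoprod _ _).comp_coconePointUniqueUpToIso_hom hc ⟨.left⟩)
    · rw [coprod.inr_desc, ← Category.assoc]
      exact congrArg (· ≫ p) ((coprodIsCoprod _ _).comp_coconePointUniqueUpToIso_hom hc ⟨.right⟩)
  have : p = e.inv ≫ coprod.desc (A.ι ≫ p) (B.ι ≫ p) := by rw [← he, Iso.inv_hom_id_assoc]
  rw [this]
  infer_instance

/-- A finite union of opens which are finite with finite pairwise intersections is finite. -/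
theorem isFinite_of_opens {P T : Scheme.{u}} (p : P ⟶ T) {k : ℕ} (W : Fin k → P.Opens) (hW : ⨆ a, W a = ⊤)
    (h1 : ∀ a, IsFinite ((W a).ι ≫ p)) (h2 : ∀ a b, IsFinite ((W a ⊓ W b).ι ≫ p)) : IsFinite p := by
  classical
  have hcl : ∀ a b, IsClosed ((W a).ι ⁻¹' (W b : Set P)) := fun a b => by
    haveI := h1 a
    haveI := h2 a b
    let i := P.homOfLE (inf_le_left : W a ⊓ W b ≤ W a)
    haveI : IsFinite (i ≫ (W a).ι ≫ p) := by
      rw [← Category.assoc]; simp only [i, Scheme.homOfLE_ι]; infer_instance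
    haveI : IsFinite i := IsFinite.of_comp i ((W a).ι ≫ p)
    have e : Set.range i = (W a).ι ⁻¹' (W b : Set P) := by
      ext x
      constructor
      · rintro ⟨y, rfl⟩
        show (W a).ι (i y) ∈ W b
        rw [comp_pt (Scheme.homOfLE_ι _ _) y]
        exact y.2.2
      · intro hx
        exact ⟨⟨x.1, x.2, hx⟩, (W a).ι.isOpenEmbedding.injective (comp_pt (Scheme.homOfLE_ι _ _) _)⟩
    rw [← e]
    exact i.isClosedMap.isClosed_range
  suffices H : ∀ s : Finset (Fin k), IsFinite ((s.sup W).ι ≫ p) by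
    have h := H Finset.univ
    rw [Finset.sup_univ_eq_iSup, hW] at h
    have e : p = P.topIso.inv ≫ (⊤ : P.Opens).ι ≫ p := by
      rw [← Category.assoc, ← Scheme.topIso_hom, Iso.inv_hom_id, Category.id_comp]
    rw [e]
    infer_instance
  intro s
  induction s using Finset.induction_on with
  | empty =>
    haveI : IsEmpty ↥(Scheme.Opens.toScheme ((∅ : Finset (Fin k)).sup W)) := ⟨fun x => x.2⟩
    haveI : IsClosedImmersion (((∅ : Finset (Fin k)).sup W).ι ≫ p) := inferInstance
    infer_instance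
  | insert a s _ ih =>
    let U := (insert a s).sup W
    let Q := s.sup W
    have hQU : Q ≤ U := Finset.sup_mono (Finset.subset_insert a s)
    have haU : W a ≤ U := Finset.le_sup (Finset.mem_insert_self a s)
    have hQ : IsClosed ((W a).ι ⁻¹' (Q : Set P)) := by
      have : (W a).ι ⁻¹' (Q : Set P) = ⋃ b ∈ s, (W a).ι ⁻¹' (W b : Set P) := by
        simp [Q, Finset.sup_eq_iSup]
      rw [this]
      exact isClosed_biUnion_finset fun b _ => hcl a b
    -- the part of `W a` outside `Q`, as a clopen of `W a`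
    let B₀ : (W a).toScheme.Opens := ⟨_, hQ.isOpen_compl⟩
    haveI : IsClosedImmersion B₀.ι := IsClosedImmersion.of_isPreimmersion _ (by
      rw [Scheme.Opens.range_ι]; exact ((W a).ι ⁻¹ᵁ Q).2.isClosed_compl)
    let B : U.toScheme.Opens := U.ι ⁻¹ᵁ ((W a).ι ''ᵁ B₀)
    let A : U.toScheme.Opens := U.ι ⁻¹ᵁ Q
    have hBU : (W a).ι ''ᵁ B₀ ≤ U := ((W a).ι.image_le_opensRange B₀).trans
      ((W a).opensRange_ι.le.trans haU)
    haveI : IsFinite (A.ι ≫ U.ι ≫ p) := by
      have hr : Set.range (A.ι ≫ U.ι) = Set.range Q.ι := by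
        ext x
        constructor
        · rintro ⟨y, rfl⟩
          exact ⟨⟨U.ι (A.ι y), y.2⟩, rfl⟩
        · rintro ⟨q, rfl⟩
          exact ⟨⟨⟨q.1, hQU q.2⟩, q.2⟩, rfl⟩
      rw [← Category.assoc, ← IsOpenImmersion.isoOfRangeEq_hom_fac _ _ hr, Category.assoc]
      infer_instance
    haveI : IsFinite (B.ι ≫ U.ι ≫ p) := by
      have hr : Set.range (B.ι ≫ U.ι) = Set.range (B₀.ι ≫ (W a).ι) := by
        ext x
        constructor
        · rintro ⟨y, rfl⟩
          obtain ⟨z, hz, e⟩ := y.2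
          exact ⟨⟨z, hz⟩, e⟩
        · rintro ⟨q, rfl⟩
          exact ⟨⟨⟨q.1.1, haU q.1.2⟩, ⟨q.1, q.2, rfl⟩⟩, rfl⟩
      rw [← Category.assoc, ← IsOpenImmersion.isoOfRangeEq_hom_fac _ _ hr, Category.assoc, Category.assoc]
      haveI := h1 a
      infer_instance
    refine isFinite_of_opens_disjoint (U.ι ≫ p) A B ?_ ?_
    · rw [disjoint_iff, eq_bot_iff]
      rintro y ⟨hyQ, z, hz, e⟩
      exact hz (show (W a).ι z ∈ Q from e ▸ hyQ)
    · rw [eq_top_iff]
      rintro ⟨y, hy⟩ -
      by_cases hyQ : y ∈ Q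
      · exact Or.inl hyQ
      · refine Or.inr ?_
        have : y ∈ W a ∨ y ∈ Q := by
          have h : U = W a ⊔ Q := Finset.sup_insert
          exact (show y ∈ W a ⊔ Q from h ▸ hy)
        have hya := this.resolve_right hyQ
        exact ⟨⟨y, hya⟩, hyQ, rfl⟩

end Groth.Agent.EtStrat13
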